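import Mathlib

/-!
# Noetherian integer graded rings
-/

set_option autoImplicit false

universe u

open DirectSum

namespace Groth.Agent.ZGradedNoethLib

variable {R A : Type u} [CommRing R] [CommRing A] [Algebra R A]
  (𝒜 : ℤ → Submodule R A) [GradedAlgebra 𝒜]

lemma proj_mul {i : ℤ} {t : A} (ht : t ∈ 𝒜 i) (a : A) (n : ℤ) :
    (decompose 𝒜 (a * t) n : A) = (decompose 𝒜 a (n - i) : A) * t := by
  conv_lhs => rw [show n = n - i + i by ring]
  exact coe_decompose_mul_add_of_right_mem 𝒜 ht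

/-- Elements in the span of homogeneous elements, degree by degree. -/
lemma exists_coeff {t : Finset A} (d : A → ℤ) (hd : ∀ f ∈ t, f ∈ 𝒜 (d f)) {n : ℤ} {x : A}
    (hx : x ∈ 𝒜 n) (hxt : x ∈ Ideal.span (t : Set A)) :
    ∃ c : A → A, (∀ f, c f ∈ 𝒜 (n - d f)) ∧ x = ∑ f ∈ t, c f * f := by
  obtain ⟨a, -, ha⟩ := Submodule.mem_span_finset.1 hxt
  refine ⟨fun f => decompose 𝒜 (a f) (n - d f), fun f => SetLike.coe_mem _, ?_⟩
  calc x = GradedRing.proj 𝒜 n x := by rw [GradedRing.proj_apply, decompose_of_mem_same 𝒜 hx]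
    _ = ∑ f ∈ t, GradedRing.proj 𝒜 n (a f * f) := by rw [← map_sum, ← ha]; rfl
    _ = _ := Finset.sum_congr rfl fun f hf => by rw [GradedRing.proj_apply, proj_mul 𝒜 (hd f hf)]

variable (h : ∀ I : Ideal A, I.IsHomogeneous 𝒜 → I.FG)

include h

/-- The ideal generated by a set of homogeneous elements has a finite set of such generators. -/
lemma exists_finset (S : Set A) (hS : ∀ f ∈ S, SetLike.IsHomogeneousElem 𝒜 f) :
    ∃ t : Finset A, (t : Set A) ⊆ S ∧ ∀ f ∈ S, f ∈ Ideal.span (t : Set A) := by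
  obtain ⟨t, ht, he⟩ := Submodule.fg_span_iff_fg_span_finset_subset S |>.1
    (h (Ideal.span S) (Ideal.homogeneous_span 𝒜 S hS))
  exact ⟨t, ht, fun f hf => he.le (Submodule.subset_span hf)⟩

/-- The degree zero part is Noetherian. -/
theorem isNoetherianRing_zero : IsNoetherianRing (𝒜 0) := by
  refine (isNoetherianRing_iff_ideal_fg _).2 fun I => ?_
  classical
  obtain ⟨t, ht, hI⟩ := exists_finset 𝒜 h ((Subtype.val : 𝒜 0 → A) '' I)
    (by rintro _ ⟨x, -, rfl⟩; exact ⟨0, x.2⟩)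
  refine ⟨t.attach.image fun f => ⟨f.1, ?_⟩, le_antisymm (Ideal.span_le.2 ?_) fun x hx => ?_⟩
  · obtain ⟨y, -, hy⟩ := ht f.2
    exact hy ▸ y.2
  · intro x hx
    simp only [Finset.coe_image, Set.mem_image] at hx
    obtain ⟨⟨f, hf⟩, -, rfl⟩ := hx
    obtain ⟨y, hy, rfl⟩ := ht hf
    exact hy
  · have hd : ∀ f ∈ t, f ∈ 𝒜 0 := fun f hf => by
      obtain ⟨y, -, rfl⟩ := ht hf; exact y.2
    obtain ⟨c, hc, hxc⟩ := exists_coeff 𝒜 (fun _ => 0) hd x.2 (hI _ ⟨x, hx, rfl⟩)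
    have : x = ∑ f ∈ t.attach, (⟨c f.1, by simpa using hc f.1⟩ : 𝒜 0) * ⟨f.1, hd f.1 f.2⟩ := by
      apply Subtype.ext
      rw [hxc, AddSubmonoidClass.coe_finsetSum, ← Finset.sum_attach]
      exact Finset.sum_congr rfl fun f _ => rfl
    rw [this]
    exact Submodule.sum_mem _ fun f _ => Ideal.mul_mem_left _ _ (Ideal.subset_span
      (by simp only [Finset.coe_image, Set.mem_image]; exact ⟨f, by simp, rfl⟩))

/-- The non-negative degrees form an algebra of finite type; `ε = ±1` chooses the side. -/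
theorem fg_side (ε : ℤ) (hε : ε = 1 ∨ ε = -1) :
    (Algebra.adjoin (𝒜 0) {a : A | ∃ n : ℤ, 0 ≤ ε * n ∧ a ∈ 𝒜 n}).FG := by
  classical
  have hee : ε * ε = 1 := by rcases hε with rfl | rfl <;> rfl
  obtain ⟨t, ht, hgen⟩ := exists_finset 𝒜 h {a : A | ∃ n : ℤ, 0 < ε * n ∧ a ∈ 𝒜 n}
    (by rintro f ⟨n, -, hf⟩; exact ⟨n, hf⟩)
  choose! d hd hmem using fun f (hf : f ∈ t) => ht hf
  let D : ℕ := (t.sup fun f => (ε * d f).toNat)
  choose g hg hgspan using fun n : ℤ => exists_finset 𝒜 h (𝒜 n : Set A) (fun f hf => ⟨n, hf⟩)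
  let G : Finset A := t ∪ (Finset.range (D + 1)).biUnion fun k => g (ε * k)
  refine ⟨G, le_antisymm (Algebra.adjoin_mono ?_) (Algebra.adjoin_le ?_)⟩
  · intro f hf
    simp only [G, Finset.coe_union, Set.mem_union, Finset.mem_coe, Finset.mem_biUnion,
      Finset.mem_range] at hf
    rcases hf with hf | ⟨k, -, hf⟩
    · exact ⟨d f, (hd f hf).le, hmem f hf⟩
    · exact ⟨ε * k, by rw [← mul_assoc, hee, one_mul]; positivity, hg _ hf⟩
  · suffices ∀ k : ℕ, ∀ a ∈ 𝒜 (ε * k), a ∈ Algebra.adjoin (𝒜 0) (G : Set A) by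
      rintro a ⟨n, hn, ha⟩
      obtain ⟨k, hk⟩ := Int.eq_ofNat_of_zero_le hn
      refine this k a ?_
      rwa [← hk, ← mul_assoc, hee, one_mul]
    intro k
    induction k using Nat.strong_induction_on with
    | _ k ih =>
      intro a ha
      by_cases hk : k ≤ D
      · obtain ⟨c, hc, hac⟩ := exists_coeff 𝒜 (fun _ => ε * k) (fun f hf => hg _ hf) ha (hgspan _ a ha)
        rw [hac]
        refine Subalgebra.sum_mem _ fun f hf => ?_
        have hc0 : c f ∈ 𝒜 0 := by simpa using hc f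
        refine Subalgebra.mul_mem _ (Subalgebra.algebraMap_mem (Algebra.adjoin (𝒜 0) (G : Set A))
          (⟨c f, hc0⟩ : 𝒜 0)) (Algebra.subset_adjoin ?_)
        exact Finset.mem_union_right _ (Finset.mem_biUnion.2 ⟨k, Finset.mem_range.2 (by omega), hf⟩)
      · obtain ⟨c, hc, hac⟩ := exists_coeff 𝒜 d hmem ha (hgen a ⟨ε * k, by
          rw [← mul_assoc, hee, one_mul]; omega, ha⟩)
        rw [hac]
        refine Subalgebra.sum_mem _ fun f hf => ?_
        refine Subalgebra.mul_mem _ ?_ (Algebra.subset_adjoin (Finset.mem_union_left _ hf))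
        obtain ⟨j, hj⟩ := Int.eq_ofNat_of_zero_le (hd f hf).le
        have hjD : j ≤ D := by
          have : (ε * d f).toNat ≤ D := Finset.le_sup (f := fun f => (ε * d f).toNat) hf
          omega
        have hj0 : 0 < j := by have := hd f hf; omega
        refine ih (k - j) (by omega) _ ?_
        have e : d f = ε * j := by rw [← hj, ← mul_assoc, hee, one_mul]
        convert hc f using 2
        rw [e, Nat.cast_sub (by omega)]
        ring

omit h in
theorem tfae : [IsNoetherianRing A,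
     ∀ I : Ideal A, I.IsHomogeneous 𝒜 → I.FG,
     IsNoetherianRing (𝒜 0) ∧ (Algebra.adjoin (𝒜 0) {a : A | ∃ n : ℤ, 0 ≤ n ∧ a ∈ 𝒜 n}).FG ∧
       (Algebra.adjoin (𝒜 0) {a : A | ∃ n : ℤ, n ≤ 0 ∧ a ∈ 𝒜 n}).FG,
     IsNoetherianRing (𝒜 0) ∧ Algebra.FiniteType (𝒜 0) A].TFAE := by
  classical
  tfae_have 1 → 2 := fun hA I _ => hA.noetherian I
  tfae_have 2 → 3 := fun h => by
    refine ⟨isNoetherianRing_zero 𝒜 h, ?_, ?_⟩
    · simpa using fg_side 𝒜 h 1 (Or.inl rfl)
    · simpa using fg_side 𝒜 h (-1) (Or.inr rfl)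
  tfae_have 3 → 4 := fun ⟨h0, ⟨s, hs⟩, ⟨s', hs'⟩⟩ => by
    refine ⟨h0, ⟨s ∪ s', top_le_iff.1 fun a _ => ?_⟩⟩
    rw [← DirectSum.sum_support_decompose 𝒜 a]
    refine Subalgebra.sum_mem _ fun n _ => ?_
    rcases le_total 0 n with hn | hn
    · exact Algebra.adjoin_mono (Finset.coe_subset.2 Finset.subset_union_left)
        (hs.ge (Algebra.subset_adjoin ⟨n, hn, SetLike.coe_mem _⟩))
    · exact Algebra.adjoin_mono (Finset.coe_subset.2 Finset.subset_union_right)
        (hs'.ge (Algebra.subset_adjoin ⟨n, hn, SetLike.coe_mem _⟩))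
  tfae_have 4 → 1 := fun ⟨h0, h1⟩ => Algebra.FiniteType.isNoetherianRing (𝒜 0) A
  tfae_finish

end Groth.Agent.ZGradedNoethLib
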